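import Groth.Agent.Lib.CplLocH7.Basic
import Mathlib.RingTheory.Invariant.Basic
import Mathlib.RingTheory.IsGaloisGroup.Basic
import Mathlib.FieldTheory.Galois.IsGaloisGroup
import Mathlib.RingTheory.DedekindDomain.IntegralClosure
import Mathlib.RingTheory.Filtration
import Mathlib.RingTheory.QuasiFinite.Basic
import Mathlib.RingTheory.AdicCompletion.LocalRing

/-!
# The decomposition group is the Galois group of the completions
-/

set_option autoImplicit false
set_option linter.style.haveILetI false
universe u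

open IsLocalRing Pointwise

namespace Groth.Agent.DecompCplH7

variable (R S G : Type u) [CommRing R] [CommRing S] [IsDomain R] [IsDomain S] [Algebra R S]
  [Group G] [Finite G] [MulSemiringAction G S] [SMulCommClass G R S] [IsGaloisGroup G R S]
  (P : Ideal R) [P.IsPrime]

omit [IsDomain R] [IsDomain S] [Finite G] [P.IsPrime] in
theorem smul_mem_map_pow (n : ℕ) (g : G) {s : S} (hs : s ∈ P.map (algebraMap R S) ^ n) :
    g • s ∈ P.map (algebraMap R S) ^ n := by
  rw [← Ideal.map_pow] at hs ⊢
  have := Ideal.mem_map_of_mem (MulSemiringAction.toRingHom G S g) hs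
  rwa [Ideal.map_map, show (MulSemiringAction.toRingHom G S g).comp (algebraMap R S) = algebraMap R S from
    RingHom.ext fun r => smul_algebraMap g r] at this

variable {R S} in
/-- The symbolic power of `P S` at a prime. -/
noncomputable def J (n : ℕ) (q : Ideal S) [q.IsPrime] : Ideal S :=
  ((P.map (algebraMap R S) ^ n).map (algebraMap S (Localization.AtPrime q))).comap
    (algebraMap S (Localization.AtPrime q))

omit [IsDomain R] [IsDomain S] [P.IsPrime] in
theorem mem_J (n : ℕ) (q : Ideal S) [q.IsPrime] (s : S) :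
    s ∈ J P n q ↔ ∃ w ∉ q, w * s ∈ P.map (algebraMap R S) ^ n := by
  rw [J, Ideal.mem_comap, IsLocalization.algebraMap_mem_map_algebraMap_iff q.primeCompl (Localization.AtPrime q)]
  rfl

omit [IsDomain R] [IsDomain S] [Finite G] [P.IsPrime] in
theorem smul_mem_J (n : ℕ) (q q' : Ideal S) [q.IsPrime] [q'.IsPrime] (g : G) (hq : g • q = q') {s : S}
    (hs : s ∈ J P n q) : g • s ∈ J P n q' := by
  rw [mem_J] at hs ⊢
  obtain ⟨w, hw, hws⟩ := hs
  refine ⟨g • w, ?_, ?_⟩
  · subst hq
    rwa [Ideal.smul_mem_pointwise_smul_iff]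
  · rw [← smul_mul']
    exact smul_mem_map_pow R S G P n g hws

omit [IsDomain R] [IsDomain S] [P.IsPrime] in
theorem J_le_self {n : ℕ} (hn : 0 < n) (q : Ideal S) [q.IsPrime] (hq : q.comap (algebraMap R S) = P) :
    J P n q ≤ q := fun s hs => by
  obtain ⟨w, hw, hws⟩ := (mem_J R S P n q s).1 hs
  have hle : P.map (algebraMap R S) ≤ q := Ideal.map_le_iff_le_comap.2 hq.ge
  exact ((inferInstance : q.IsPrime).mem_or_mem (hle (Ideal.pow_le_self hn.ne' hws))).resolve_left hw

include G in
theorem finite_base [IsNoetherianRing R] [IsIntegrallyClosed R] [IsIntegrallyClosed S] [FaithfulSMul R S] :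
    Module.Finite R S := by
  haveI : Algebra.IsIntegral R S := Algebra.IsInvariant.isIntegral R S G
  letI := IsFractionRing.mulSemiringAction G S (FractionRing S)
  letI := FractionRing.liftAlgebra R (FractionRing S)
  haveI : IsGaloisGroup G (FractionRing R) (FractionRing S) :=
    IsGaloisGroup.to_isFractionRing G R S _ _
  haveI := IsGaloisGroup.finiteDimensional G (FractionRing R) (FractionRing S)
  haveI := IsGaloisGroup.isGalois G (FractionRing R) (FractionRing S)
  haveI : IsIntegralClosure S R (FractionRing S) := IsIntegralClosure.of_isIntegrallyClosed S R (FractionRing S)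
  exact IsIntegralClosure.finite R (FractionRing R) (FractionRing S) S

variable (Q : Ideal S) [Q.IsPrime] (hQ : Q.comap (algebraMap R S) = P)

omit [IsDomain R] [IsDomain S] [Finite G] [P.IsPrime] [Q.IsPrime] in
include hQ in
theorem comap_smul (g : G) : (g • Q).comap (algebraMap R S) = P := by
  ext r
  rw [Ideal.mem_comap, Ideal.mem_pointwise_smul_iff_inv_smul_mem, smul_algebraMap, ← Ideal.mem_comap, hQ]

omit [IsDomain R] [IsDomain S] in
include hQ in
/-- An ideal contained in no conjugate of `Q` meets the complement of `P`. -/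
theorem exists_base (I : Ideal S) (h : ∀ g : G, ¬ I ≤ g • Q) : ∃ u : R, u ∉ P ∧ algebraMap R S u ∈ I := by
  classical
  cases nonempty_fintype G
  obtain ⟨w, hwI, hw⟩ : ∃ w ∈ I, ∀ g : G, w ∉ g • Q := by
    by_contra hne
    push_neg at hne
    have hsub : (I : Set S) ⊆ ⋃ g ∈ ((Finset.univ : Finset G) : Set G), ((g • Q : Ideal S) : Set S) := fun x hx => by
      obtain ⟨g, hg⟩ := hne x hx
      exact Set.mem_iUnion₂.2 ⟨g, Finset.mem_coe.2 (Finset.mem_univ g), hg⟩
    obtain ⟨g, -, hg⟩ := (Ideal.subset_union_prime 1 1 fun g _ _ _ => Ideal.IsPrime.smul (I := Q) g).1 hsub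
    exact h g hg
  obtain ⟨u, hu⟩ := Algebra.IsInvariant.isInvariant (A := R) (∏ g : G, g • w) (Finset.smul_prod_perm w)
  refine ⟨u, fun huP => ?_, ?_⟩
  · have hmem : ∏ g : G, g • w ∈ Q := by rw [← hu, ← Ideal.mem_comap, hQ]; exact huP
    obtain ⟨g, -, hg⟩ := (Ideal.IsPrime.prod_mem_iff (p := Q)).1 hmem
    exact hw g⁻¹ (by rw [Ideal.mem_pointwise_smul_iff_inv_smul_mem, inv_inv]; exact hg)
  · rw [hu, ← Finset.mul_prod_erase Finset.univ _ (Finset.mem_univ (1 : G)), one_smul]
    exact Ideal.mul_mem_right _ _ hwI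

variable [IsNoetherianRing R] [Module.Finite R S]

omit [IsDomain R] [IsDomain S] [Finite G] [SMulCommClass G R S] [IsGaloisGroup G R S] [P.IsPrime] in
theorem maximalIdeal_le_radical (n : ℕ) (q : Ideal S) [q.IsPrime] (hq : q.comap (algebraMap R S) = P) :
    maximalIdeal (Localization.AtPrime q) ≤
      ((P.map (algebraMap R S) ^ n).map (algebraMap S (Localization.AtPrime q))).radical := by
  rw [Ideal.radical_eq_sInf]
  refine le_sInf fun r ⟨hr, hrp⟩ => ?_
  haveI := hrp
  haveI : (r.comap (algebraMap S (Localization.AtPrime q))).IsPrime := Ideal.comap_isPrime _ r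
  have hle : r.comap (algebraMap S (Localization.AtPrime q)) ≤ q := by
    refine le_trans (Ideal.comap_mono (le_maximalIdeal hrp.ne_top)) ?_
    exact (Localization.AtPrime.comap_maximalIdeal (I := q)).le
  have hPr : P ≤ (r.comap (algebraMap S (Localization.AtPrime q))).comap (algebraMap R S) := by
    rw [← Ideal.map_le_iff_le_comap]
    intro x hx
    exact (Ideal.IsPrime.mem_of_pow_mem (inferInstance : (r.comap _).IsPrime) n
      (Ideal.map_le_iff_le_comap.1 hr (Ideal.pow_mem_pow hx n)))
  have heq : r.comap (algebraMap S (Localization.AtPrime q)) = q := by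
    refine @Algebra.QuasiFinite.eq_of_le_of_under_eq R S _ _ _ inferInstance _ _ _ _ hle ?_
    show (r.comap _).comap (algebraMap R S) = q.comap (algebraMap R S)
    exact le_antisymm (Ideal.comap_mono hle) (hq.le.trans hPr)
  rw [← Localization.AtPrime.map_eq_maximalIdeal, Ideal.map_le_iff_le_comap, heq]

omit [IsDomain R] [IsDomain S] [Finite G] [SMulCommClass G R S] [IsGaloisGroup G R S] [P.IsPrime] in
theorem not_J_le (n : ℕ) (q q' : Ideal S) [q.IsPrime] [q'.IsPrime] (hq : q.comap (algebraMap R S) = P)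
    (hq' : q'.comap (algebraMap R S) = P) (hne : q' ≠ q) : ¬ J P n q ≤ q' := fun h => by
  refine hne ?_
  have hle : q ≤ q' := fun s hs => by
    obtain ⟨k, hk⟩ := maximalIdeal_le_radical R S P n q hq
      (show algebraMap S (Localization.AtPrime q) s ∈ maximalIdeal (Localization.AtPrime q) by
        rw [← Ideal.mem_comap]; exact (Localization.AtPrime.comap_maximalIdeal (I := q)).ge hs)
    rw [← map_pow] at hk
    exact Ideal.IsPrime.mem_of_pow_mem ‹q'.IsPrime› k (h hk)
  exact (@Algebra.QuasiFinite.eq_of_le_of_under_eq R S _ _ _ inferInstance _ _ _ _ hle (hq.trans hq'.symm)).symm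

omit [IsDomain R] [IsDomain S] in
include hQ in
/-- An element congruent to a base element at `Q` and small at the other conjugates. -/
theorem exists_separator {n : ℕ} (hn : 0 < n) :
    ∃ (u : R) (z : S), u ∉ P ∧ algebraMap R S u - z ∈ J P n Q ∧
      ∀ g : G, g • Q ≠ Q → ∀ [(g • Q).IsPrime], z ∈ J P n (g • Q) := by
  classical
  cases nonempty_fintype G
  haveI : ∀ g : G, (g • Q).IsPrime := fun g => Ideal.IsPrime.smul g
  let F : Finset G := Finset.univ.filter fun g => g • Q ≠ Q
  let B : Ideal S := F.inf fun g => J P n (g • Q)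
  have hB : ∀ g : G, ¬ J P n Q ⊔ B ≤ g • Q := by
    intro g hg
    by_cases hgQ : g • Q = Q
    · obtain ⟨g', hg', hle⟩ := (Ideal.IsPrime.inf_le' (inferInstance : (g • Q).IsPrime)).1 (le_sup_right.trans hg)
      exact not_J_le R S P n (g' • Q) (g • Q) (comap_smul R S G P Q hQ g') (comap_smul R S G P Q hQ g)
        (by rw [hgQ]; exact (Finset.mem_filter.1 hg').2.symm) hle
    · exact not_J_le R S P n Q (g • Q) hQ (comap_smul R S G P Q hQ g) hgQ (le_sup_left.trans hg)
  obtain ⟨u, hu, humem⟩ := exists_base R S G P Q hQ _ hB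
  obtain ⟨a, ha, b, hb, hab⟩ := Submodule.mem_sup.1 humem
  refine ⟨u, b, hu, by rw [← hab, add_sub_cancel_right]; exact ha, fun g hg _ => ?_⟩
  exact Finset.inf_le (f := fun g => J P n (g • Q)) (Finset.mem_filter.2 ⟨Finset.mem_univ g, hg⟩) hb

omit [IsDomain R] [IsDomain S] in
include hQ in
/-- An element invariant to high order under the decomposition group is a base element to high order. -/
theorem exists_invariant_approx :
    ∃ c : ℕ, ∀ n, c < n → ∀ s : S, (∀ d : G, d • Q = Q → d • s - s ∈ J P n Q) →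
      ∃ r v : R, v ∉ P ∧ algebraMap R S v * s - algebraMap R S r ∈ J P (n - c) Q := by
  classical
  cases nonempty_fintype G
  haveI : ∀ g : G, (g • Q).IsPrime := fun g => Ideal.IsPrime.smul g
  let Φ : S →ₗ[R] (G → S) :=
    LinearMap.pi fun g => (DistribSMul.toLinearMap R S g) - LinearMap.id
  obtain ⟨c, hc⟩ := Ideal.exists_pow_inf_eq_pow_smul P (LinearMap.range Φ)
  refine ⟨c, fun n hn s hs => ?_⟩
  obtain ⟨u, z, hu, huz, hz⟩ := exists_separator R S G P Q hQ (n := n) (by omega)
  let Ps : Finset (Ideal S) := Finset.univ.image fun g : G => g • Q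
  have hγ : ∀ q : Ideal S, ∃ g : G, q ∈ Ps → g • Q = q := fun q => by
    by_cases hq : q ∈ Ps
    · obtain ⟨g, -, hg⟩ := Finset.mem_image.1 hq
      exact ⟨g, fun _ => hg⟩
    · exact ⟨1, fun h => absurd h hq⟩
  choose γ hγ using hγ
  let t : S := ∑ q ∈ Ps, γ q • (s * z)
  have ht : ∀ h : G, t - algebraMap R S u * h • s ∈ J P n (h • Q) := by
    intro h
    have hmem : h • Q ∈ Ps := Finset.mem_image.2 ⟨h, Finset.mem_univ h, rfl⟩
    rw [show t = γ (h • Q) • (s * z) + ∑ q ∈ Ps.erase (h • Q), γ q • (s * z) from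
      (Finset.add_sum_erase Ps (fun q => γ q • (s * z)) hmem).symm, add_sub_right_comm]
    refine add_mem ?_ (Submodule.sum_mem _ fun q hq => ?_)
    · obtain ⟨d, hd, hdQ⟩ : ∃ d : G, γ (h • Q) = h * d ∧ d • Q = Q :=
        ⟨h⁻¹ * γ (h • Q), by rw [mul_inv_cancel_left], by rw [mul_smul, hγ _ hmem, inv_smul_smul]⟩
      have h1 : d • (s * z) - algebraMap R S u * s ∈ J P n Q := by
        have h2 : s * z - algebraMap R S u * s ∈ J P n Q := by
          rw [show s * z - algebraMap R S u * s = -(s * (algebraMap R S u - z)) by ring]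
          exact neg_mem (Ideal.mul_mem_left _ _ huz)
        have h3 := smul_mem_J R S G P n Q Q d hdQ h2
        rw [smul_sub, smul_mul' d (algebraMap R S u) s, smul_algebraMap] at h3
        have h4 := add_mem h3 (Ideal.mul_mem_left _ (algebraMap R S u) (hs d hdQ))
        convert h4 using 1
        ring
      have h5 := smul_mem_J R S G P n Q (h • Q) h rfl h1
      rw [smul_sub, smul_mul' h (algebraMap R S u) s, smul_algebraMap, ← mul_smul, ← hd] at h5
      exact h5
    · obtain ⟨hne, hqP⟩ := Finset.mem_erase.1 hq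
      have hne' : ((γ q)⁻¹ * h) • Q ≠ Q := fun e => hne (by
        rw [← hγ q hqP]
        conv_lhs => rw [← e, ← mul_smul, mul_inv_cancel_left])
      have h1 := smul_mem_J R S G P n (((γ q)⁻¹ * h) • Q) (h • Q) (γ q)
        (by rw [← mul_smul, mul_inv_cancel_left]) (Ideal.mul_mem_left _ s (hz _ hne'))
      exact h1
  have hΦ : ∀ g h : G, g • t - t ∈ J P n (h • Q) := fun g h => by
    have h1 := smul_mem_J R S G P n ((g⁻¹ * h) • Q) (h • Q) g (by rw [← mul_smul, mul_inv_cancel_left]) (ht (g⁻¹ * h))
    rw [smul_sub, smul_mul' g (algebraMap R S u), smul_algebraMap, ← mul_smul g (g⁻¹ * h), mul_inv_cancel_left] at h1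
    have h2 := sub_mem h1 (ht h)
    convert h2 using 1
    ring
  let K : Ideal S := Finset.univ.inf fun g : G =>
    Submodule.comap (LinearMap.mulRight S (g • t - t)) (P.map (algebraMap R S) ^ n)
  obtain ⟨u', hu', hu'K⟩ := exists_base R S G P Q hQ K (fun h hle => by
    obtain ⟨g, -, hg⟩ := (Ideal.IsPrime.inf_le' (inferInstance : (h • Q).IsPrime)).1 hle
    obtain ⟨w, hw, hwt⟩ := (mem_J R S P n _ _).1 (hΦ g h)
    exact hw (hg hwt))
  have hmem : Φ (algebraMap R S u' * t) ∈ P ^ n • (⊤ : Submodule R (G → S)) ⊓ LinearMap.range Φ := by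
    refine ⟨?_, LinearMap.mem_range_self _ _⟩
    have hval : ∀ g, Φ (algebraMap R S u' * t) g ∈ P ^ n • (⊤ : Submodule R S) := fun g => by
      rw [Ideal.smul_top_eq_map, Submodule.restrictScalars_mem, Ideal.map_pow]
      show g • (algebraMap R S u' * t) - algebraMap R S u' * t ∈ _
      rw [smul_mul', smul_algebraMap, ← mul_sub]
      exact Finset.inf_le (f := fun g : G =>
        Submodule.comap (LinearMap.mulRight S (g • t - t)) (P.map (algebraMap R S) ^ n)) (Finset.mem_univ g) hu'K
    rw [← Finset.univ_sum_single (Φ (algebraMap R S u' * t))]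
    exact Submodule.sum_mem _ fun g _ => Submodule.smul_top_le_comap_smul_top (P ^ n)
      (LinearMap.single R (fun _ : G => S) g) (hval g)
  rw [hc n (by omega)] at hmem
  have hmem' : Φ (algebraMap R S u' * t) ∈ (P ^ (n - c) • (⊤ : Submodule R S)).map Φ := by
    rw [Submodule.map_smul'', Submodule.map_top]
    exact Submodule.smul_mono le_rfl inf_le_right hmem
  obtain ⟨p, hp, hpΦ⟩ := hmem'
  obtain ⟨r, hr⟩ := Algebra.IsInvariant.isInvariant (A := R) (algebraMap R S u' * t - p) fun g => by
    have h1 : g • p - p = g • (algebraMap R S u' * t) - algebraMap R S u' * t := congrFun hpΦ g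
    rw [smul_sub]
    linear_combination -h1
  refine ⟨r, u' * u, fun h => ((inferInstance : P.IsPrime).mem_or_mem h).elim hu' hu, ?_⟩
  have hpJ : p ∈ J P (n - c) Q := by
    rw [mem_J]
    refine ⟨1, (Ideal.ne_top_iff_one Q).1 (Ideal.IsPrime.ne_top inferInstance), ?_⟩
    rw [one_mul, ← Ideal.map_pow]
    rw [Ideal.smul_top_eq_map, SetLike.mem_coe, Submodule.restrictScalars_mem] at hp
    exact hp
  have ht1 : t - algebraMap R S u * s ∈ J P (n - c) Q := by
    have h0 := (mem_J R S P n _ _).1 (ht 1)
    simp only [one_smul] at h0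
    obtain ⟨w, hw, hwt⟩ := h0
    exact (mem_J R S P _ Q _).2 ⟨w, hw, Ideal.pow_le_pow_right (Nat.sub_le n c) hwt⟩
  rw [hr, map_mul]
  have := sub_mem hpJ (Ideal.mul_mem_left _ (algebraMap R S u') ht1)
  convert this using 1
  ring

omit [IsDomain R] [IsDomain S] in
include G hQ in
/-- Elements of the base that are small at `Q` are small. -/
theorem exists_base_bound [FaithfulSMul R S] : ∃ c : ℕ, ∀ n, c < n → ∀ r : R,
    algebraMap R S r ∈ J P n Q → ∃ v ∉ P, v * r ∈ P ^ (n - c) := by
  classical
  cases nonempty_fintype G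
  haveI : ∀ g : G, (g • Q).IsPrime := fun g => Ideal.IsPrime.smul g
  obtain ⟨c, hc⟩ := Ideal.exists_pow_inf_eq_pow_smul P (LinearMap.range (Algebra.linearMap R S))
  refine ⟨c, fun n hn r hr => ?_⟩
  let K : Ideal S := Submodule.comap (LinearMap.mulRight S (algebraMap R S r)) (P.map (algebraMap R S) ^ n)
  obtain ⟨v, hv, hvK⟩ := exists_base R S G P Q hQ K (fun h hle => by
    have h1 := smul_mem_J R S G P n Q (h • Q) h rfl hr
    rw [smul_algebraMap] at h1
    obtain ⟨w, hw, hwt⟩ := (mem_J R S P n _ _).1 h1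
    exact hw (hle hwt))
  refine ⟨v, hv, ?_⟩
  have hmem : algebraMap R S (v * r) ∈ P ^ n • (⊤ : Submodule R S) ⊓ LinearMap.range (Algebra.linearMap R S) := by
    refine ⟨?_, ⟨v * r, rfl⟩⟩
    rw [Ideal.smul_top_eq_map, SetLike.mem_coe, Submodule.restrictScalars_mem, Ideal.map_pow, map_mul]
    exact hvK
  rw [hc n (by omega)] at hmem
  have hmem' : algebraMap R S (v * r) ∈ (P ^ (n - c) • (⊤ : Submodule R R)).map (Algebra.linearMap R S) := by
    rw [Submodule.map_smul'', Submodule.map_top]
    exact Submodule.smul_mono le_rfl inf_le_right hmem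
  obtain ⟨a, ha, hav⟩ := hmem'
  rw [← FaithfulSMul.algebraMap_injective R S hav]
  rw [SetLike.mem_coe, smul_eq_mul, Ideal.mul_top] at ha
  exact ha

variable [IsNoetherianRing S]

/-- The map to the completion. -/
noncomputable abbrev ι : S →+* CplLocH7.Cpl (Localization.AtPrime Q) :=
  (algebraMap (Localization.AtPrime Q) _).comp (algebraMap S (Localization.AtPrime Q))

omit [IsDomain R] [IsDomain S] [Finite G] [SMulCommClass G R S] [IsGaloisGroup G R S] [P.IsPrime]
  [IsNoetherianRing R] [Module.Finite R S] in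
include hQ in
theorem ι_mem_of_J (n : ℕ) {a : S} (ha : a ∈ J P n Q) :
    ι S Q a ∈ maximalIdeal (CplLocH7.Cpl (Localization.AtPrime Q)) ^ n := by
  show algebraMap (Localization.AtPrime Q) _ _ ∈ _
  rw [CplLocH7.mem_pow_iff, ← Localization.AtPrime.map_eq_maximalIdeal, ← Ideal.map_pow]
  exact Ideal.map_mono (Ideal.pow_right_mono (Ideal.map_le_iff_le_comap.2 hQ.ge) n) ha

omit [IsDomain R] [IsDomain S] [Finite G] [SMulCommClass G R S] [IsGaloisGroup G R S] [P.IsPrime] in
include hQ in
theorem exists_J_bound : ∃ N : ℕ, 0 < N ∧ ∀ n (a : S),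
    ι S Q a ∈ maximalIdeal (CplLocH7.Cpl (Localization.AtPrime Q)) ^ (N * n) → a ∈ J P n Q := by
  obtain ⟨N, hN⟩ := Ideal.exists_pow_le_of_le_radical_of_fg (maximalIdeal_le_radical R S P 1 Q hQ)
    (IsNoetherian.noetherian _)
  refine ⟨N + 1, Nat.succ_pos _, fun n a ha => ?_⟩
  change algebraMap (Localization.AtPrime Q) _ _ ∈ _ at ha
  rw [CplLocH7.mem_pow_iff, pow_mul] at ha
  have h1 := Ideal.pow_right_mono ((Ideal.pow_le_pow_right N.le_succ).trans hN) n ha
  rw [pow_one, ← Ideal.map_pow] at h1
  exact h1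

theorem isGaloisGroup_cpl [IsIntegrallyClosed R] [IsIntegrallyClosed S] [FaithfulSMul R S]
    [MulSemiringAction (MulAction.stabilizer G Q) (CplLocH7.Cpl (Localization.AtPrime Q))]
    (hact : ∀ (g : MulAction.stabilizer G Q) (s : S), g • ι S Q s = ι S Q (g • s))
    [Algebra (CplLocH7.Cpl (Localization.AtPrime P)) (CplLocH7.Cpl (Localization.AtPrime Q))]
    (halg : ∀ r : R, algebraMap (CplLocH7.Cpl (Localization.AtPrime P)) (CplLocH7.Cpl (Localization.AtPrime Q))
      (ι R P r) = ι S Q (algebraMap R S r)) (hQ : Q.comap (algebraMap R S) = P) :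
    IsGaloisGroup (MulAction.stabilizer G Q) (CplLocH7.Cpl (Localization.AtPrime P))
      (CplLocH7.Cpl (Localization.AtPrime Q)) := by
  classical
  let 𝔪 := maximalIdeal (CplLocH7.Cpl (Localization.AtPrime Q))
  let 𝔫 := maximalIdeal (CplLocH7.Cpl (Localization.AtPrime P))
  let φ := algebraMap (CplLocH7.Cpl (Localization.AtPrime P)) (CplLocH7.Cpl (Localization.AtPrime Q))
  have hle : 𝔫.map φ ≤ 𝔪 := by
    show (maximalIdeal _).map φ ≤ _
    rw [CplLocH7.maximalIdeal_cpl]
    refine (Ideal.map_mono (Ideal.map_mono (Localization.AtPrime.map_eq_maximalIdeal (I := P)).ge)).trans ?_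
    rw [Ideal.map_map, Ideal.map_map, Ideal.map_le_iff_le_comap]
    intro r hr
    show φ (ι R P r) ∈ 𝔪
    rw [halg, ← pow_one 𝔪]
    refine ι_mem_of_J R S P Q hQ 1 ((mem_J R S P 1 Q _).2 ⟨1, (Ideal.ne_top_iff_one Q).1 (Ideal.IsPrime.ne_top inferInstance), ?_⟩)
    rw [one_mul, pow_one]
    exact Ideal.mem_map_of_mem _ hr
  have hpow : ∀ n, ∀ a ∈ 𝔫 ^ n, φ a ∈ 𝔪 ^ n := fun n a ha => by
    have := Ideal.mem_map_of_mem φ ha
    rw [Ideal.map_pow] at this
    exact Ideal.pow_right_mono hle n this
  have hsm : ∀ (g : MulAction.stabilizer G Q) n, ∀ x ∈ 𝔪 ^ n, g • x ∈ 𝔪 ^ n := fun g n x hx => by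
    let e := MulSemiringAction.toRingEquiv (MulAction.stabilizer G Q) (CplLocH7.Cpl (Localization.AtPrime Q)) g
    have h1 := Ideal.mem_map_of_mem e.toRingHom hx
    rw [Ideal.map_pow] at h1
    refine Ideal.pow_right_mono ?_ n h1
    haveI : IsLocalHom e.toRingHom := ⟨fun a ha => by simpa using ha.map e.symm.toRingHom⟩
    exact ((local_hom_TFAE e.toRingHom).out 0 2 rfl rfl).1 inferInstance
  have hunit : ∀ v : R, v ∉ P → IsUnit (ι S Q (algebraMap R S v)) := fun v hv =>
    (IsLocalization.map_units (Localization.AtPrime Q)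
      (⟨algebraMap R S v, fun h => hv (hQ.le h)⟩ : Q.primeCompl)).map (algebraMap (Localization.AtPrime Q) (CplLocH7.Cpl (Localization.AtPrime Q)))
  have heqP : ∀ a : Localization.AtPrime P, ∃ r v : R, v ∉ P ∧
      φ (algebraMap _ (CplLocH7.Cpl (Localization.AtPrime P)) a) * ι S Q (algebraMap R S v) =
        ι S Q (algebraMap R S r) := fun a => by
    obtain ⟨r, v, rfl⟩ := IsLocalization.exists_mk'_eq P.primeCompl a
    refine ⟨r, v, v.2, ?_⟩
    rw [← halg, ← halg, ← map_mul]
    show φ (_ * algebraMap (Localization.AtPrime P) _ (algebraMap R _ (v : R))) = _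
    rw [← map_mul, IsLocalization.mk'_spec]
    rfl
  have heq2 : ∀ (r : R) (p : P.primeCompl) (v : R), (p : R) = v →
      φ (algebraMap _ (CplLocH7.Cpl (Localization.AtPrime P)) (IsLocalization.mk' (Localization.AtPrime P) r p)) *
        ι S Q (algebraMap R S v) = ι S Q (algebraMap R S r) := fun r p v hp => by
    subst hp
    rw [← halg, ← halg, ← map_mul]
    show φ (_ * algebraMap (Localization.AtPrime P) _ (algebraMap R _ (p : R))) = _
    rw [← map_mul, IsLocalization.mk'_spec]
    rfl
  have hfixR : ∀ (g : MulAction.stabilizer G Q) (r : R), g • ι S Q (algebraMap R S r) = ι S Q (algebraMap R S r) :=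
    fun g r => by
      rw [hact]
      exact congrArg _ (smul_algebraMap (g : G) r)
  have hfix : ∀ (g : MulAction.stabilizer G Q) (y : CplLocH7.Cpl (Localization.AtPrime P)), g • φ y = φ y := by
    intro g y
    refine sub_eq_zero.1 (IsHausdorff.haus (I := 𝔪) inferInstance _ fun n => ?_)
    rw [SModEq.zero, smul_eq_mul, Ideal.mul_top]
    obtain ⟨a, ha⟩ := CplLocH7.exists_sub_mem_pow n y
    have h1 : φ (y - algebraMap _ _ a) ∈ 𝔪 ^ n := hpow n _ ha
    obtain ⟨r, v, hv, he⟩ := heqP a
    have h2 : g • φ (algebraMap _ (CplLocH7.Cpl (Localization.AtPrime P)) a) = φ (algebraMap _ _ a) := by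
      have h3 := congrArg (fun z => g • z) he
      simp only [smul_mul', hfixR] at h3
      exact (hunit v hv).mul_right_cancel (h3.trans he.symm)
    have h4 := sub_mem (hsm g n _ h1) h1
    rw [map_sub, smul_sub, h2, sub_sub_sub_cancel_right] at h4
    exact h4
  refine ⟨⟨fun {g₁ g₂} h => ?_⟩, ⟨fun g y z => ?_⟩, ⟨fun x hx => ?_⟩⟩
  · have hinj : Function.Injective (ι S Q) := by
      haveI := CplLocH7.faithfullyFlat_cpl (Localization.AtPrime Q)
      exact (FaithfulSMul.algebraMap_injective (Localization.AtPrime Q) _).comp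
        (IsLocalization.injective _ Q.primeCompl_le_nonZeroDivisors)
    haveI := (IsGaloisGroup.faithful (G := G) (B := S) R)
    refine Subtype.ext (eq_of_smul_eq_smul fun s : S => hinj ?_)
    have h5 := h (ι S Q s)
    rw [hact, hact] at h5
    exact h5
  · rw [Algebra.smul_def, smul_mul', hfix, ← Algebra.smul_def]
  · obtain ⟨N, hN0, hN⟩ := exists_J_bound R S P Q hQ
    obtain ⟨c₁, hc₁⟩ := exists_invariant_approx R S G P Q hQ
    obtain ⟨c₂, hc₂⟩ := exists_base_bound R S G P Q hQ
    have happ : ∀ k, ∃ a : Localization.AtPrime P, x - φ (algebraMap _ _ a) ∈ 𝔪 ^ k := by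
      intro k
      let n := k + c₁ + 1
      obtain ⟨a₀, ha₀⟩ := CplLocH7.exists_sub_mem_pow (N * n) x
      obtain ⟨s, d, rfl⟩ := IsLocalization.exists_mk'_eq Q.primeCompl a₀
      have hxd : x * ι S Q d - ι S Q s ∈ 𝔪 ^ (N * n) := by
        have := Ideal.mul_mem_right (ι S Q d) _ ha₀
        rwa [sub_mul, show ι S Q (d : S) = algebraMap (Localization.AtPrime Q) _ (algebraMap S _ (d : S)) from rfl, ← map_mul, IsLocalization.mk'_spec] at this
      obtain ⟨u, z, hu, huz, hz⟩ := exists_separator R S G P Q hQ (n := N * n) (Nat.mul_pos hN0 (Nat.succ_pos _))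
      let d' : S := (d : S) * z + (algebraMap R S u - z)
      have hNn : 0 < N * n := Nat.mul_pos hN0 (Nat.succ_pos _)
      obtain ⟨v, hv, hvd⟩ := exists_base R S G P Q hQ (Ideal.span {d'}) (fun g hle => by
        haveI := Ideal.IsPrime.smul (I := Q) g
        have hd' : d' ∈ g • Q := hle (Ideal.subset_span rfl)
        by_cases hgQ : g • Q = Q
        · rw [hgQ] at hd'
          have h1 := J_le_self R S P hNn Q hQ huz
          have h2 : (d : S) * algebraMap R S u ∈ Q := by
            have := add_mem (sub_mem hd' h1) (Ideal.mul_mem_left Q (d : S) h1)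
            convert this using 1
            ring
          rcases (inferInstance : Q.IsPrime).mem_or_mem h2 with h3 | h3
          · exact d.2 h3
          · exact hu (hQ.le h3)
        · have h1 : z ∈ g • Q := J_le_self R S P hNn _ (comap_smul R S G P Q hQ g) (hz g hgQ)
          have h2 : algebraMap R S u ∈ g • Q := by
            have := add_mem (sub_mem hd' (Ideal.mul_mem_left _ (d : S) h1)) h1
            convert this using 1
            ring
          exact hu ((comap_smul R S G P Q hQ g).le h2))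
      obtain ⟨c, hc⟩ := Ideal.mem_span_singleton'.1 hvd
      let s' : S := s * algebraMap R S u * c
      have hxv : x * ι S Q (algebraMap R S v) - ι S Q s' ∈ 𝔪 ^ (N * n) := by
        have h1 : ι S Q (algebraMap R S v - (d : S) * algebraMap R S u * c) ∈ 𝔪 ^ (N * n) := by
          refine ι_mem_of_J R S P Q hQ (N * n) ?_
          rw [← hc, show c * d' - (d : S) * algebraMap R S u * c =
            (c * (1 - (d : S))) * (algebraMap R S u - z) by ring]
          exact Ideal.mul_mem_left _ _ huz
        have h2 := add_mem (Ideal.mul_mem_left _ x h1) (Ideal.mul_mem_right (ι S Q (algebraMap R S u * c)) _ hxd)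
        convert h2 using 1
        simp only [s', map_sub, map_mul]
        ring
      have hinv : ∀ g : G, g • Q = Q → g • s' - s' ∈ J P n Q := fun g hg => by
        refine hN n _ ?_
        let g' : MulAction.stabilizer G Q := ⟨g, hg⟩
        have h1 := hsm g' _ _ hxv
        rw [smul_sub, smul_mul', hx, hfixR, hact] at h1
        have h2 := sub_mem hxv h1
        rw [sub_sub_sub_cancel_left] at h2
        rw [map_sub]
        exact h2
      obtain ⟨r, w, hw, hrw⟩ := hc₁ n (by omega) s' hinv
      refine ⟨IsLocalization.mk' _ r (⟨v * w, fun h => ((inferInstance : P.IsPrime).mem_or_mem h).elim hv hw⟩ : P.primeCompl), ?_⟩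
      have h1 : ι S Q (algebraMap R S w * s' - algebraMap R S r) ∈ 𝔪 ^ k :=
        Ideal.pow_le_pow_right (by omega) (ι_mem_of_J R S P Q hQ _ hrw)
      have hle' : k ≤ N * n := le_trans (by omega) (Nat.le_mul_of_pos_left n hN0)
      have h2 := add_mem (Ideal.mul_mem_right (ι S Q (algebraMap R S w)) _ (Ideal.pow_le_pow_right hle' hxv)) h1
      rw [← Ideal.mul_unit_mem_iff_mem _ (hunit _ (show v * w ∉ P from fun h => ((inferInstance : P.IsPrime).mem_or_mem h).elim hv hw)),
        sub_mul]
      rw [heq2 r ⟨v * w, fun h => ((inferInstance : P.IsPrime).mem_or_mem h).elim hv hw⟩ (v * w) rfl]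
      convert h2 using 1
      simp only [map_sub, map_mul]
      ring
    choose a ha using happ
    have hdown : ∀ k, ∃ M, ∀ b : Localization.AtPrime P, φ (algebraMap _ _ b) ∈ 𝔪 ^ M →
        b ∈ maximalIdeal (Localization.AtPrime P) ^ k := fun k => by
      refine ⟨N * (k + c₂ + 1), fun b hb => ?_⟩
      obtain ⟨r, v, hv, he⟩ := heqP b
      have h1 : ι S Q (algebraMap R S r) ∈ 𝔪 ^ (N * (k + c₂ + 1)) := he ▸ Ideal.mul_mem_right _ _ hb
      obtain ⟨v', hv', hmem⟩ := hc₂ (k + c₂ + 1) (by omega) r (hN _ _ h1)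
      have hu : IsUnit (algebraMap R (Localization.AtPrime P) (v * v')) :=
        IsLocalization.map_units (Localization.AtPrime P)
          (⟨v * v', fun h => ((inferInstance : P.IsPrime).mem_or_mem h).elim hv hv'⟩ : P.primeCompl)
      rw [← Ideal.mul_unit_mem_iff_mem _ hu, ← Localization.AtPrime.map_eq_maximalIdeal, ← Ideal.map_pow]
      have h2 : b * algebraMap R (Localization.AtPrime P) (v * v') = algebraMap R _ (v' * r) := by
        have hι : Function.Injective fun b : Localization.AtPrime P => φ (algebraMap _ _ b) := by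
          intro b₁ b₂ hb'
          obtain ⟨r₁, v₁, hv₁, he₁⟩ := heqP (b₁ - b₂)
          rw [map_sub, map_sub, sub_eq_zero.2 hb', zero_mul] at he₁
          have hinj : Function.Injective (ι S Q) := by
            haveI := CplLocH7.faithfullyFlat_cpl (Localization.AtPrime Q)
            exact (FaithfulSMul.algebraMap_injective (Localization.AtPrime Q) _).comp
              (IsLocalization.injective _ Q.primeCompl_le_nonZeroDivisors)
          have hr0 : r₁ = 0 := FaithfulSMul.algebraMap_injective R S (hinj (by rw [← he₁, map_zero, map_zero]))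
          obtain ⟨r₂, v₂, h⟩ := IsLocalization.exists_mk'_eq P.primeCompl (b₁ - b₂)
          have h3 : φ (algebraMap _ _ (b₁ - b₂)) = 0 := by rw [map_sub, map_sub, sub_eq_zero.2 hb']
          rw [← h] at h3
          have h4 : φ (ι R P r₂) = 0 := by
            show φ (algebraMap _ _ (algebraMap R (Localization.AtPrime P) r₂)) = 0
            rw [← IsLocalization.mk'_spec (Localization.AtPrime P) r₂ v₂, map_mul, map_mul, h3, zero_mul]
          rw [halg] at h4
          have hr2 : r₂ = 0 := FaithfulSMul.algebraMap_injective R S (hinj (by rw [h4, map_zero, map_zero]))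
          rw [hr2, IsLocalization.mk'_zero] at h
          exact sub_eq_zero.1 h.symm
        apply hι
        simp only [map_mul]
        have e1 : ∀ y : R, φ (algebraMap (Localization.AtPrime P) _ (algebraMap R _ y)) = ι S Q (algebraMap R S y) :=
          fun y => halg y
        rw [e1, e1, e1, ← mul_assoc, he]
        ring
      rw [h2]
      exact Ideal.mem_map_of_mem _ (Ideal.pow_le_pow_right (by omega) hmem)
    choose M hM using hdown
    let M' : ℕ → ℕ := fun k => ∑ i ∈ Finset.range (k + 1), (M i + i)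
    have hM' : ∀ k, M k + k ≤ M' k := fun k =>
      Finset.single_le_sum (f := fun i => M i + i) (fun i _ => Nat.zero_le _) (Finset.self_mem_range_succ k)
    have hmono : ∀ {i j}, i ≤ j → M' i ≤ M' j := fun h =>
      Finset.sum_le_sum_of_subset (Finset.range_mono (by omega))
    obtain ⟨L, hL⟩ := IsPrecomplete.prec (I := 𝔫) inferInstance
      (f := fun k => algebraMap (Localization.AtPrime P) (CplLocH7.Cpl (Localization.AtPrime P)) (a (M' k)))
      (fun {i j} hij => by
        rw [SModEq.sub_mem, smul_eq_mul, Ideal.mul_top, ← map_sub, CplLocH7.mem_pow_iff]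
        refine hM i _ ?_
        rw [map_sub, map_sub]
        have h1 := sub_mem (Ideal.pow_le_pow_right (le_trans ((Nat.le_add_right _ _).trans (hM' i)) (hmono hij)) (ha (M' j)))
          (Ideal.pow_le_pow_right ((Nat.le_add_right _ _).trans (hM' i)) (ha (M' i)))
        rw [sub_sub_sub_cancel_left] at h1
        exact h1)
    refine ⟨L, (sub_eq_zero.1 (IsHausdorff.haus (I := 𝔪) inferInstance _ fun k => ?_)).symm⟩
    rw [SModEq.zero, smul_eq_mul, Ideal.mul_top]
    have h1 := hL k
    rw [SModEq.sub_mem, smul_eq_mul, Ideal.mul_top] at h1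
    have h2 := hpow k _ h1
    rw [map_sub] at h2
    have h3 := add_mem (Ideal.pow_le_pow_right ((Nat.le_add_left _ _).trans (hM' k)) (ha (M' k))) h2
    rwa [sub_add_sub_cancel] at h3

end Groth.Agent.DecompCplH7
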